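import Cfsg.Agent.Lib.GagolaSol.Q8Dim
import Cfsg.Agent.Lib.Zassen.CtxOf
import Cfsg.Agent.Lib.Zassen.QuatAut
import Cfsg.Agent.Lib.OddOrder.Exc3
import Cfsg.Agent.Lib.Solvable.Fitting

/-!
# Solvable linear groups, transitive on nonzero vectors, with `p`-group stabilizers

Let `Γ` be a finite solvable group acting faithfully on an elementary abelian `p`-group `K`,
transitively on `K ∖ 1`, such that the stabilizers of nonidentity elements are `p`-groups.
Then `Γ` has a normal `p`-complement and commutative Sylow `p`-subgroups.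
-/

set_option autoImplicit false
set_option linter.unusedSectionVars false
set_option linter.style.haveILetI false

namespace Cfsg.Agent.Lib.GagolaSol.Linear

open Subgroup Cfsg Cfsg.Agent.Lib.Core.Basic
open scoped commutatorElement

universe u v

variable {Γ : Type u} {K : Type v} [Group Γ] [Finite Γ] [CommGroup K] [Finite K] [Nontrivial K]
  {p : ℕ} [hp : Fact p.Prime]

/-- The setting. -/
structure TL (act : Γ →* MulAut K) (p : ℕ) : Prop where
  exp : ∀ k : K, k ^ p = 1
  inj : Function.Injective act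
  trans : ∀ k k' : K, k ≠ 1 → k' ≠ 1 → ∃ g, act g k = k'
  stab : ∀ (g : Γ) (k : K), k ≠ 1 → act g k = k → ∃ n : ℕ, g ^ p ^ n = 1

variable {act : Γ →* MulAut K}

/-- An element of order coprime to `p` fixing a nonidentity element is trivial. -/
theorem eq_one_of_fix (h : TL act p) {g : Γ} {k : K} (hk : k ≠ 1) (hfix : act g k = k)
    (hg : (orderOf g).Coprime p) : g = 1 := by
  obtain ⟨n, hn⟩ := h.stab g k hk hfix
  have h1 : orderOf g ∣ p ^ n := orderOf_dvd_of_pow_eq_one hn
  have h2 : (orderOf g).Coprime (p ^ n) := Nat.Coprime.pow_right n hg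
  have h3 : orderOf g = 1 := Nat.Coprime.eq_one_of_dvd h2 h1
  exact orderOf_eq_one_iff.mp h3

/-- A subgroup of order prime to `p` acts fixed-point-freely. -/
theorem fpf_of_coprime (h : TL act p) (R : Subgroup Γ) (hR : (Nat.card R).Coprime p) :
    ∀ g : R, g ≠ 1 → ∀ k : K, (act.comp R.subtype) g k = k → k = 1 := by
  intro g hg k hk
  by_contra hk1
  apply hg
  apply Subtype.ext
  apply eq_one_of_fix h hk1 hk
  have h1 : orderOf (g : Γ) ∣ Nat.card R := by
    rw [Subgroup.orderOf_coe]
    exact orderOf_dvd_natCard g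
  exact Nat.Coprime.coprime_dvd_left h1 hR

/-- `O_p(Γ) = 1`. -/
theorem pCore_eq_bot (h : TL act p) : pCore p Γ = ⊥ := by
  rw [eq_bot_iff]
  intro y hy
  rw [mem_bot]
  set P := pCore p Γ with hP
  have hPp : IsPGroup p P := pCore_isPGroup
  letI : MulAction P K := MulAction.compHom K (act.comp P.subtype)
  have hsmul : ∀ (y : P) (k : K), y • k = act y k := fun _ _ => rfl
  have h1 : (1 : K) ∈ MulAction.fixedPoints P K := by
    intro y
    rw [hsmul, map_one]
  have hdvd : p ∣ Nat.card K := by
    obtain ⟨k, hk⟩ := exists_ne (1 : K)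
    have h2 : orderOf k = p := orderOf_eq_prime (h.exp k) hk
    rw [← h2]
    exact orderOf_dvd_natCard k
  obtain ⟨b, hb, hne⟩ := hPp.exists_fixed_point_of_prime_dvd_card_of_fixed_point K hdvd h1
  have hfix : ∀ y ∈ P, act y b = b := fun y hy => hb ⟨y, hy⟩
  have hall : ∀ k : K, act y k = k := by
    intro k
    by_cases hk : k = 1
    · rw [hk, map_one]
    obtain ⟨g, hg⟩ := h.trans b k hne.symm hk
    have hPn : P.Normal := pCore_normal p Γ
    have h3 : g⁻¹ * y * g ∈ P := by
      have := hPn.conj_mem y hy g⁻¹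
      simpa using this
    have h4 := hfix _ h3
    rw [map_mul, map_mul, map_inv] at h4
    have h5 : act y (act g b) = act g b := by
      have h6 : ((act g)⁻¹ * act y * act g) b = b := h4
      have h7 : (act g)⁻¹ (act y (act g b)) = b := h6
      have h8 := congrArg (act g) h7
      rw [← MulAut.mul_apply, mul_inv_cancel, MulAut.one_apply] at h8
      exact h8
    rw [← hg, h5]
  apply h.inj
  rw [map_one]
  ext k
  exact hall k

/-- The Fitting subgroup has order prime to `p`. -/
theorem coprime_fitting (h : TL act p) : (Nat.card (fittingSubgroup Γ)).Coprime p := by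
  rw [Nat.coprime_comm, Nat.Prime.coprime_iff_not_dvd hp.out]
  intro hd
  obtain ⟨x, hx⟩ := exists_prime_orderOf_dvd_card' (G := fittingSubgroup Γ) p hd
  have h1 : (x : Γ) ^ p ^ 1 = 1 := by
    rw [pow_one, ← Subgroup.orderOf_coe] at *
    rw [← hx]
    exact pow_orderOf_eq_one _
  have h2 : (x : Γ) ∈ pCore p Γ := Cfsg.Agent.Lib.OddOrder.Exc3.mem_pCore_of_mem_fitting x.2 ⟨1, h1⟩
  rw [pCore_eq_bot h, mem_bot] at h2
  have h3 : x = 1 := Subtype.ext h2
  rw [h3, orderOf_one] at hx
  exact hp.out.one_lt.ne hx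

/-- Subgroups of prime power order for a prime different from `p`. -/
theorem alt (h : TL act p) (R : Subgroup Γ) {r : ℕ} [hr : Fact r.Prime] (hR : IsPGroup r R) (hrp : r ≠ p) :
    IsCyclic R ∨ (r = 2 ∧ ∃ n : ℕ, Nonempty (R ≃* QuaternionGroup (2 ^ n))) := by
  have hRc : (Nat.card R).Coprime p := by
    obtain ⟨n, hn⟩ := IsPGroup.iff_card.mp hR
    rw [hn]
    exact Nat.Coprime.pow_left n ((Nat.coprime_primes hr.out hp.out).mpr hrp)
  have hfpf := fpf_of_coprime h R hRc
  by_cases h2 : 2 ∣ Nat.card R
  · obtain ⟨z, hz⟩ := exists_prime_orderOf_dvd_card' (p := 2) (G := R) h2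
    have hz2 : z ^ 2 = 1 := by rw [← hz]; exact pow_orderOf_eq_one z
    have hz1 : z ≠ 1 := by
      rintro rfl
      rw [orderOf_one] at hz
      omega
    refine Cfsg.Agent.Lib.Zassen.CtxOf.comm_ctx (fun a b => mul_comm a b) (act.comp R.subtype)
      hfpf hz2 hz1 ?_
    intro E V _ _ _ _ _ _ r' _ _ ρ C
    have := Cfsg.Agent.Lib.Zassen.Unique.subgroup_alt C.fpf (⊤ : Subgroup R)
      (q := r) (hR.of_equiv Subgroup.topEquiv.symm)
    rcases this with h1 | ⟨h1, n, ⟨e⟩⟩
    · left
      exact isCyclic_of_surjective _ (Subgroup.topEquiv (G := R)).surjective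
    · right
      exact ⟨h1, n, ⟨Subgroup.topEquiv.symm.trans e⟩⟩
  · left
    haveI := Cfsg.Agent.Lib.Zassen.Semi.isZGroup_of_odd (act.comp R.subtype) hfpf h2
    have := (hR.of_equiv Subgroup.topEquiv.symm : IsPGroup r (⊤ : Subgroup R)).isCyclic_of_isZGroup
    exact isCyclic_of_surjective _ (Subgroup.topEquiv (G := R)).surjective

/-- A normal Hall subgroup complements each Sylow subgroup. -/
theorem isComplement_of_hall {G : Type u} [Group G] [Finite G] (M : Subgroup G)
    (hMc : (Nat.card M).Coprime p) (hq : ∃ k : ℕ, M.index = p ^ k) (P : Sylow p G) :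
    M.IsComplement' (P : Subgroup G) := by
  have hpp : p.Prime := hp.out
  obtain ⟨k, hk⟩ := hq
  obtain ⟨c, hc⟩ := IsPGroup.iff_card.mp P.isPGroup'
  have h1 : Nat.card M * p ^ k = Nat.card G := by
    rw [← hk]
    exact M.card_mul_index
  have h2 : p ^ c * (P : Subgroup G).index = Nat.card G := by
    rw [← hc]
    exact (P : Subgroup G).card_mul_index
  have hi : (P : Subgroup G).index.Coprime p :=
    ((Nat.Prime.coprime_iff_not_dvd hpp).mpr P.not_dvd_index).symm
  have h3 : p ^ c ∣ p ^ k := by
    have h4 : p ^ c ∣ Nat.card M * p ^ k := by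
      rw [h1, ← h2]
      exact dvd_mul_right _ _
    exact (Nat.Coprime.pow_left c hMc.symm).dvd_of_dvd_mul_left h4
  have h5 : p ^ k ∣ p ^ c := by
    have h4 : p ^ k ∣ p ^ c * (P : Subgroup G).index := by
      rw [h2, ← h1]
      exact dvd_mul_left _ _
    exact (Nat.Coprime.pow_left k hi.symm).dvd_of_dvd_mul_right h4
  have h6 : p ^ c = p ^ k := Nat.dvd_antisymm h3 h5
  apply isComplement'_of_coprime
  · rw [hc, h6, h1]
  · rw [hc]
    exact Nat.Coprime.pow_right c hMc

/-- If the commutator subgroup has order prime to `p`: the conclusion. -/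
theorem of_commutator {G : Type u} [Group G] [Finite G] (h : (Nat.card (commutator G)).Coprime p) :
    HasNormalPComplement p G ∧ ∀ Q : Sylow p G, IsMulCommutative (Q : Subgroup G) := by
  classical
  have hpp : p.Prime := hp.out
  constructor
  · obtain ⟨a, m, hm, hT⟩ : ∃ (a m : ℕ), m.Coprime p ∧ Nat.card (Abelianization G) = p ^ a * m := by
      have hT0 : Nat.card (Abelianization G) ≠ 0 := Nat.card_pos.ne'
      refine ⟨(Nat.card (Abelianization G)).factorization p, ordCompl[p] (Nat.card (Abelianization G)), ?_, ?_⟩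
      · exact ((Nat.Prime.coprime_iff_not_dvd hpp).mpr (Nat.not_dvd_ordCompl hpp hT0)).symm
      · exact (Nat.ordProj_mul_ordCompl_eq_self _ _).symm
    let f : Abelianization G →* Abelianization G := powMonoidHom (p ^ a)
    let M : Subgroup G := f.range.comap Abelianization.of
    have hMn : M.Normal := Subgroup.Normal.comap inferInstance _
    have hMc : (Nat.card M).Coprime p := by
      rw [coprime_card_iff_forall_orderOf]
      intro x hx
      rw [Nat.coprime_comm, Nat.Prime.coprime_iff_not_dvd hpp]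
      intro hd
      obtain ⟨q, hq⟩ := hd
      have hq0 : q ≠ 0 := by
        rintro rfl
        rw [mul_zero] at hq
        exact (orderOf_pos x).ne' hq
      set y := x ^ q with hy
      have hyo : orderOf y = p := by
        rw [hy, orderOf_pow_of_dvd hq0 ⟨p, by rw [hq, mul_comm]⟩, hq]
        exact Nat.mul_div_cancel _ (Nat.pos_of_ne_zero hq0)
      have hyM : y ∈ M := M.pow_mem hx q
      obtain ⟨t, ht⟩ : ∃ t, f t = Abelianization.of y := hyM
      have ht' : t ^ p ^ a = Abelianization.of y := ht
      have h1 : t ^ (p ^ a * p) = 1 := by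
        rw [pow_mul, ht', ← map_pow, ← hyo, pow_orderOf_eq_one, map_one]
      have h2 : t ^ (p ^ a * m) = 1 := by
        rw [← hT]
        exact pow_card_eq_one'
      have h3 : orderOf t ∣ p ^ a := by
        have h4 := Nat.dvd_gcd (orderOf_dvd_of_pow_eq_one h1) (orderOf_dvd_of_pow_eq_one h2)
        rwa [Nat.gcd_mul_left, (Nat.Coprime.symm hm : Nat.Coprime p m), mul_one] at h4
      have h5 : Abelianization.of y = 1 := by
        rw [← ht', orderOf_dvd_iff_pow_eq_one.mp h3]
      have h6 : y ∈ commutator G := (QuotientGroup.eq_one_iff y).mp h5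
      have h7 : orderOf y ∣ Nat.card (commutator G) := by
        have := orderOf_dvd_natCard (⟨y, h6⟩ : commutator G)
        rwa [Subgroup.orderOf_mk] at this
      rw [hyo] at h7
      exact (Nat.Prime.coprime_iff_not_dvd hpp).mp h.symm h7
    have hq : IsPGroup p (G ⧸ M) := by
      intro g
      induction g using QuotientGroup.induction_on with
      | H x =>
        refine ⟨a, ?_⟩
        rw [← QuotientGroup.mk_pow, QuotientGroup.eq_one_iff]
        change Abelianization.of (x ^ p ^ a) ∈ f.range
        rw [map_pow]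
        exact ⟨Abelianization.of x, rfl⟩
    obtain ⟨P⟩ : Nonempty (Sylow p G) := inferInstance
    exact ⟨P, M, hMn, isComplement_of_hall M hMc (IsPGroup.iff_card.mp hq) P⟩
  · intro Q
    refine ⟨⟨fun a b => Subtype.ext ?_⟩⟩
    have h1 : ⁅(a : G), (b : G)⁆ ∈ commutator G := commutator_mem_commutator (mem_top _) (mem_top _)
    have h2 : ⁅(a : G), (b : G)⁆ ∈ (Q : Subgroup G) := by
      rw [commutatorElement_def]
      exact mul_mem (mul_mem (mul_mem a.2 b.2) (inv_mem a.2)) (inv_mem b.2)
    obtain ⟨n, hn⟩ := IsPGroup.iff_orderOf.mp Q.isPGroup' ⟨_, h2⟩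
    have h3 : orderOf ⁅(a : G), (b : G)⁆ = p ^ n := by
      rw [← hn, Subgroup.orderOf_mk]
    have h4 : orderOf ⁅(a : G), (b : G)⁆ ∣ Nat.card (commutator G) := by
      have := orderOf_dvd_natCard (⟨_, h1⟩ : commutator G)
      rwa [Subgroup.orderOf_mk] at this
    have h5 : orderOf ⁅(a : G), (b : G)⁆ = 1 := by
      apply Nat.Coprime.eq_one_of_dvd _ h4
      rw [h3]
      exact Nat.Coprime.pow_left n h.symm
    have h6 := orderOf_eq_one_iff.mp h5
    exact commutatorElement_eq_one_iff_mul_comm.mp h6

/-- An element centralizing all `O_r` lies in the Fitting subgroup. -/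
theorem mem_fitting_of_centralizes [Group.IsSolvable Γ] {x : Γ}
    (hx : ∀ r : Nat.Primes, ∀ y ∈ pCore (r : ℕ) Γ, x * y = y * x) : x ∈ fittingSubgroup Γ := by
  apply Cfsg.Agent.Lib.Solvable.Fitting.centralizer_fittingSubgroup_le
  have h1 : fittingSubgroup Γ ≤ centralizer ({x} : Set Γ) := by
    rw [fittingSubgroup_eq_iSup_pCore]
    refine iSup_le fun r y hy => ?_
    rw [mem_centralizer_singleton_iff]
    exact (hx r y hy).symm
  rw [mem_centralizer_iff]
  intro y hy
  have := h1 hy
  rw [mem_centralizer_singleton_iff] at this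
  exact this

/-- Commutators centralize a cyclic normal subgroup. -/
theorem commutator_le_of_cyclic (D : Subgroup Γ) [hD : D.Normal] (hc : IsCyclic D) :
    commutator Γ ≤ centralizer (D : Set Γ) := by
  rw [commutator_def, commutator_le]
  intro x _ y _
  have hN : ∀ z : Γ, z ∈ normalizer (D : Set Γ) := by
    intro z
    rw [normalizer_eq_top]
    exact mem_top z
  rw [commutatorElement_def]
  exact Cfsg.Agent.Lib.OddOrder.Exc3.comm_mem_centralizer_of_isCyclic hc (hN x) (hN y)

/-- The degree in the quaternion case. -/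
theorem card_eq_nine (h : TL act 3) (Q : Subgroup Γ) [hQ : Q.Normal] (e : Q ≃* QuaternionGroup 2) :
    Nat.card K = 9 := by
  haveI : Fact (Nat.Prime 3) := ⟨Nat.prime_three⟩
  letI : Module (ZMod 3) (Additive K) := AddCommGroup.zmodModule (n := 3) (fun a => by
    change Additive.ofMul ((Additive.toMul a) ^ 3) = 0
    rw [h.exp]
    rfl)
  let ρ : Γ →* Module.End (ZMod 3) (Additive K) :=
    { toFun := fun g => ((act g).toAdditive.toAddMonoidHom).toZModLinearMap 3
      map_one' := by
        ext x
        simp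
      map_mul' := fun g h => by
        ext x
        simp }
  have hρ : ∀ g v, ρ g v = Additive.ofMul (act g (Additive.toMul v)) := fun _ _ => rfl
  have hQc : (Nat.card Q).Coprime 3 := by
    rw [Nat.card_congr e.toEquiv, Nat.card_eq_fintype_card, QuaternionGroup.card]
    norm_num
  have hfpf := fpf_of_coprime h Q hQc
  have h9 : Nat.card (Additive K) = 9 := by
    refine Cfsg.Agent.Lib.GagolaSol.Q8Dim.card_eq_nine_of_transitive ρ Q e ?_ ?_
    · intro q hq hq1 v hv
      have h1 := hfpf ⟨q, hq⟩ (fun h => hq1 (congrArg Subtype.val h)) (Additive.toMul v) hv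
      exact h1
    · intro v w hv hw
      obtain ⟨g, hg⟩ := h.trans (Additive.toMul v) (Additive.toMul w) hv hw
      exact ⟨g, congrArg Additive.ofMul hg⟩
  exact h9

/-- The final step. -/
theorem final [Group.IsSolvable Γ] (h : TL act 3) (e : pCore 2 Γ ≃* QuaternionGroup 2)
    (hK9 : Nat.card K = 9) (hFp : (Nat.card (fittingSubgroup Γ)).Coprime 3) :
    HasNormalPComplement 3 Γ ∧ ∀ P : Sylow 3 Γ, IsMulCommutative (P : Subgroup Γ) := by
  classical
  haveI : Fact (Nat.Prime 3) := ⟨Nat.prime_three⟩
  set Q := pCore 2 Γ with hQdef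
  haveI hQn : Q.Normal := pCore_normal 2 Γ
  obtain ⟨k₀, hk₀⟩ := exists_ne (1 : K)
  letI : MulAction Γ K := MulAction.compHom K act
  have hsmul : ∀ (g : Γ) (k : K), g • k = act g k := fun _ _ => rfl
  set S := MulAction.stabilizer Γ k₀ with hS
  have hSp : IsPGroup 3 S := by
    intro g
    obtain ⟨n, hn⟩ := h.stab g k₀ hk₀ g.2
    exact ⟨n, Subtype.ext hn⟩
  have horb : MulAction.orbit Γ k₀ = ({1} : Set K)ᶜ := by
    ext k
    simp only [Set.mem_compl_iff, Set.mem_singleton_iff, MulAction.mem_orbit_iff]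
    constructor
    · rintro ⟨g, rfl⟩ h1
      exact hk₀ ((map_eq_one_iff (act g) (act g).injective).mp h1)
    · intro hk
      obtain ⟨g, hg⟩ := h.trans k₀ k hk₀ hk
      exact ⟨g, hg⟩
  have hidx : S.index = 8 := by
    rw [hS, MulAction.index_stabilizer, horb, Set.ncard_compl, hK9, Set.ncard_singleton]
  have hcard : Nat.card S * 8 = Nat.card Γ := by
    rw [← hidx]
    exact S.card_mul_index
  have hQ8 : Nat.card Q = 8 := by
    rw [Nat.card_congr e.toEquiv, Nat.card_eq_fintype_card, QuaternionGroup.card]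
  obtain ⟨b, hb⟩ := IsPGroup.iff_card.mp hSp
  constructor
  · refine ⟨hSp.toSylow (by rw [hidx]; norm_num), Q, hQn, ?_⟩
    rw [IsPGroup.toSylow_coe]
    apply isComplement'_of_coprime
    · rw [hQ8, mul_comm]
      exact hcard
    · rw [hQ8, hb]
      exact Nat.Coprime.pow_right _ (by norm_num)
  · intro P
    have hprime : ∀ s : Nat.Primes, (s : ℕ) ≠ 2 → pCore (s : ℕ) Γ = ⊥ := by
      intro s hs
      haveI : Fact (s : ℕ).Prime := ⟨s.2⟩
      by_cases h3 : (s : ℕ) = 3
      · rw [h3]
        exact pCore_eq_bot h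
      · apply pCore_eq_bot_of_not_dvd
        rw [← hcard, hb]
        intro hd
        rcases (Nat.Prime.dvd_mul s.2).mp hd with h4 | h4
        · exact h3 ((Nat.prime_dvd_prime_iff_eq s.2 Nat.prime_three).mp (s.2.dvd_of_dvd_pow h4))
        · exact hs ((Nat.prime_dvd_prime_iff_eq s.2 Nat.prime_two).mp
            (s.2.dvd_of_dvd_pow (show (s : ℕ) ∣ 2 ^ 3 by simpa using h4)))
    let f : (P : Subgroup Γ) →* MulAut Q := (MulAut.conjNormal).comp (P : Subgroup Γ).subtype
    have hf : Function.Injective f := by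
      rw [injective_iff_map_eq_one]
      intro x hx
      have h1 : ∀ y ∈ Q, (x : Γ) * y = y * x := by
        intro y hy
        have h4 : f x ⟨y, hy⟩ = ⟨y, hy⟩ := by
          rw [hx]
          rfl
        have h5 : (x : Γ) * y * (x : Γ)⁻¹ = y := congrArg Subtype.val h4
        exact mul_inv_eq_iff_eq_mul.mp h5
      have h2 : (x : Γ) ∈ fittingSubgroup Γ := mem_fitting_of_centralizes (fun s y hy => by
        by_cases hs : (s : ℕ) = 2
        · rw [hs] at hy
          exact h1 y hy
        · rw [hprime s hs, mem_bot] at hy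
          rw [hy]
          simp)
      obtain ⟨n, hn⟩ := IsPGroup.iff_orderOf.mp P.isPGroup' x
      have h3 : orderOf (x : Γ) ∣ Nat.card (fittingSubgroup Γ) := by
        have := orderOf_dvd_natCard (⟨x, h2⟩ : fittingSubgroup Γ)
        rwa [Subgroup.orderOf_mk] at this
      have h4 : orderOf (x : Γ) = 1 := by
        apply Nat.Coprime.eq_one_of_dvd _ h3
        rw [Subgroup.orderOf_coe, hn]
        exact Nat.Coprime.pow_left _ hFp.symm
      exact Subtype.ext (orderOf_eq_one_iff.mp h4)
    have hd : Nat.card (P : Subgroup Γ) ∣ 24 := by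
      refine (Subgroup.card_dvd_of_injective f hf).trans ?_
      rw [Nat.card_congr (MulAut.congr e).toEquiv]
      exact Cfsg.Agent.Lib.PermMod.MinNormal.card_mulAut_quaternion_dvd
    obtain ⟨c, hc⟩ := IsPGroup.iff_card.mp P.isPGroup'
    have hc1 : c ≤ 1 := by
      by_contra hc2
      have h1 : 3 ^ 2 ∣ 3 ^ c := pow_dvd_pow 3 (by omega)
      rw [hc] at hd
      have h2 := h1.trans hd
      norm_num at h2
    haveI hcyc : IsCyclic (P : Subgroup Γ) := by
      obtain rfl | rfl : c = 0 ∨ c = 1 := by omega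
      · rw [pow_zero] at hc
        haveI := (Nat.card_eq_one_iff_unique.mp hc).1
        infer_instance
      · rw [pow_one] at hc
        exact isCyclic_of_prime_card hc
    refine ⟨⟨fun a b => ?_⟩⟩
    exact (IsCyclic.commGroup (α := (P : Subgroup Γ))).mul_comm a b

/-- The main theorem. -/
theorem main [Group.IsSolvable Γ] (h : TL act p) :
    HasNormalPComplement p Γ ∧ ∀ Q : Sylow p Γ, IsMulCommutative (Q : Subgroup Γ) := by
  classical
  have hFp := coprime_fitting h
  have hpp : p.Prime := hp.out
  by_cases hcyc : ∀ r : Nat.Primes, IsCyclic (pCore (r : ℕ) Γ)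
  · apply of_commutator
    have hle : commutator Γ ≤ fittingSubgroup Γ := by
      intro x hx
      apply mem_fitting_of_centralizes
      intro r y hy
      have h1 := commutator_le_of_cyclic (pCore (r : ℕ) Γ) (hcyc r) hx
      exact (mem_centralizer_iff.mp h1 y hy).symm
    exact Nat.Coprime.coprime_dvd_left (Subgroup.card_dvd_of_le hle) hFp
  · push Not at hcyc
    obtain ⟨r, hr⟩ := hcyc
    haveI : Fact (r : ℕ).Prime := ⟨r.2⟩
    have hrp : (r : ℕ) ≠ p := by
      intro he
      apply hr
      rw [he, pCore_eq_bot h]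
      infer_instance
    rcases alt h (pCore (r : ℕ) Γ) pCore_isPGroup hrp with h1 | ⟨hr2, n, ⟨e⟩⟩
    · exact absurd h1 hr
    rw [hr2] at hr e hrp
    set Q := pCore 2 Γ with hQdef
    haveI hQn : Q.Normal := pCore_normal 2 Γ
    have hodd : ∀ s : Nat.Primes, (s : ℕ) ≠ 2 → IsCyclic (pCore (s : ℕ) Γ) := by
      intro s hs
      haveI : Fact (s : ℕ).Prime := ⟨s.2⟩
      by_cases hsp : (s : ℕ) = p
      · rw [hsp, pCore_eq_bot h]
        infer_instance
      · rcases alt h (pCore (s : ℕ) Γ) pCore_isPGroup hsp with h1 | ⟨h1, -⟩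
        · exact h1
        · exact absurd h1 hs
    have hFit : ∀ x ∈ commutator Γ, (∀ y ∈ Q, x * y = y * x) → x ∈ fittingSubgroup Γ := by
      intro x hx hxQ
      apply mem_fitting_of_centralizes
      intro s y hy
      by_cases hs : (s : ℕ) = 2
      · rw [hs] at hy
        exact hxQ y hy
      · haveI : (pCore (s : ℕ) Γ).Normal := pCore_normal _ _
        have h1 := commutator_le_of_cyclic (pCore (s : ℕ) Γ) (hodd s hs) hx
        exact (mem_centralizer_iff.mp h1 y hy).symm
    by_cases hno : (Nat.card (commutator Γ)).Coprime p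
    · exact of_commutator hno
    rw [Nat.coprime_comm, Nat.Prime.coprime_iff_not_dvd hpp, not_not] at hno
    obtain ⟨x₀, hx₀⟩ := exists_prime_orderOf_dvd_card' (G := commutator Γ) p hno
    set x : Γ := (x₀ : Γ) with hx
    have hxo : orderOf x = p := by rw [hx, Subgroup.orderOf_coe, hx₀]
    have hxp : x ^ p = 1 := by rw [← hxo]; exact pow_orderOf_eq_one x
    let σ : MulAut Q := MulAut.conjNormal x
    let σ' : MulAut (QuaternionGroup (2 ^ n)) := MulAut.congr e σ
    have hσp : σ ^ p = 1 := by
      change (MulAut.conjNormal x) ^ p = 1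
      rw [← map_pow, hxp, map_one]
    have hσ' : σ' ^ p = 1 := by
      change (MulAut.congr e σ) ^ p = 1
      rw [← map_pow, hσp, map_one]
    have hoddp : Odd p := hpp.odd_of_ne_two (fun hh => hrp hh.symm)
    have hnot1 : σ' ≠ 1 := by
      intro h1
      have h2 : σ = 1 := by
        apply (MulAut.congr e).injective
        rw [map_one]
        exact h1
      have h3 : x ∈ fittingSubgroup Γ := by
        apply hFit x x₀.2
        intro y hy
        have h4 : σ ⟨y, hy⟩ = ⟨y, hy⟩ := by rw [h2]; rfl
        have h5 : x * y * x⁻¹ = y := congrArg Subtype.val h4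
        exact mul_inv_eq_iff_eq_mul.mp h5
      have h6 : p ∣ Nat.card (fittingSubgroup Γ) := by
        have := orderOf_dvd_natCard (⟨x, h3⟩ : fittingSubgroup Γ)
        rwa [Subgroup.orderOf_mk, hxo] at this
      exact (Nat.Prime.coprime_iff_not_dvd hpp).mp hFp.symm h6
    rcases Cfsg.Agent.Lib.Zassen.QuatAut.quat_odd_aut n σ' hoddp hσ' with h1 | h3
    · exact absurd h1 hnot1
    have hp3 : p = 3 := by
      have h4 : 3 ∣ p := by
        rw [← h3]
        exact orderOf_dvd_of_pow_eq_one hσ'
      exact ((Nat.prime_dvd_prime_iff_eq Nat.prime_three hpp).mp h4).symm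
    have hn : n = 1 := by
      rcases n with _ | _ | n
      · exfalso
        apply hr
        haveI : IsCyclic (QuaternionGroup (2 ^ 0)) := QuaternionGroup.quaternionGroup_one_isCyclic
        exact isCyclic_of_surjective _ e.symm.surjective
      · rfl
      · exfalso
        exact hnot1 (Cfsg.Agent.Lib.Zassen.QuatAut.quat_large_odd_aut (n + 1 + 1) (by omega) σ' hoddp hσ')
    subst hn
    subst hp3
    have e' : Q ≃* QuaternionGroup 2 := e
    have hK9 := card_eq_nine h Q e'
    exact final h e' hK9 hFp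

end Cfsg.Agent.Lib.GagolaSol.Linear
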